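import Cfsg.Agent.H497.MG.TC
import Cfsg.Agent.H58.Mon.FiveB
import Cfsg.Agent.H8.Mon.Ev
import Cfsg.Agent.H728.Four.HNThreeComm
import Cfsg.Agent.KFacts.HN.Classes
import Cfsg.Agent.H533.T5.Tools
import Cfsg.Agent.HN.TwoClasses
import Cfsg.Agent.S1701

/-!
# S3509, row M: the elements of order 5 commuting with an involution (helper497)

* `common_of_iso` : `C(v) / ⟨v⟩ ≅ S`, the elements of order `q` of `S` commute with involutions: an element of order `q` of
  `C(v)` commutes with an involution of `C(v)`;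
* `tc_of_rad` : the type `TC` from `Rad p z x N f`, `N` a `p`-group;
* `tc_five` : an element of order 5 commuting with an involution has `C(x) / ⟨x⟩ ≅ HN` or is of type `TC`;
* `common_five`, **`i5`** : an element of order 3, 7 or 11 of `C(y)`, `y` of order 5 commuting with an involution.
-/

set_option autoImplicit false
set_option maxRecDepth 100000

namespace Cfsg.Agent.H497.MG

open Cfsg Cfsg.Agent Cfsg.Agent.MonsterX Cfsg.Agent.MonsterX.InstData Cfsg.Agent.MonsterX.MainPack Cfsg.Agent.MonsterU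
open Cfsg.Agent.MonsterP Cfsg.Agent.MonsterN Cfsg.Agent.LThreeMB
open Cfsg.Agent.MonsterX.MainBasic Cfsg.Agent.MonsterX.MainSimple Cfsg.Agent.MonsterX.Model
open Cfsg.Agent.MonsterU.Lam2 Cfsg.Agent.MonsterU.TwoCls
open Cfsg.Agent.BpSpor.MBigModel Cfsg.Agent.H199.NSmMon
open Cfsg.Agent.H498.Ab Cfsg.Agent.H199.AbTool Cfsg.Agent.H199.AbRad Cfsg.Agent.H199.AbMon
open Cfsg.Spor (Co1)
open Subgroup (centralizer zpowers mem_centralizer_singleton_iff)

/-- an element of `C(v)` of order prime to `|v|` -/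
theorem orderOf_mk {G : Type} [Group G] {v x : G} {p q : ℕ} (hp : p.Prime) (hq : q.Prime) (hqp : q ≠ p)
    (hv : orderOf v = p) (hx : orderOf x = q) (hxv : x * v = v * x) : orderOf (mk v hxv) = q := by
  have hqF : Fact q.Prime := ⟨hq⟩
  refine orderOf_eq_prime ?_ ?_
  · have hc : Commute x v := hxv
    have h1 : (mk v hxv) ^ q = mk v (hc.pow_left q).eq := rfl
    rw [h1]
    refine (mk_eq_one _).2 ⟨0, ?_⟩
    rw [zpow_zero, ← hx, pow_orderOf_eq_one]
  · intro h1
    obtain ⟨i, hi⟩ := (mk_eq_one _).1 h1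
    have h2 : orderOf x ∣ orderOf v := by
      rw [← hi]
      exact orderOf_dvd_of_mem_zpowers ⟨i, rfl⟩
    rw [hx, hv] at h2
    exact hqp ((Nat.prime_dvd_prime_iff_eq hq hp).1 h2)

/-- **elements of `C(v)`, `C(v) / ⟨v⟩ ≅ S`** -/
theorem common_of_iso {G S : Type} [Group G] [Group S] {v x : G} {p q : ℕ} (hp : p.Prime) (hp2 : Odd p) (hq : q.Prime)
    (hqp : q ≠ p) (hv : orderOf v = p) (e : XX v ≃* S) (hS : ∀ a : S, orderOf a = q → ∃ u : S, orderOf u = 2 ∧ u * a = a * u)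
    (hx : orderOf x = q) (hxv : x * v = v * x) : ∃ s : G, orderOf s = 2 ∧ s * x = x * s ∧ s * v = v * s := by
  have hxo := orderOf_mk hp hq hqp hv hx hxv
  obtain ⟨u, hu, hux⟩ := hS (e (mk v hxv)) (by rw [MulEquiv.orderOf_eq, hxo])
  obtain ⟨s, hs, hs2, hsu⟩ := H8.Mon.exists_lift (g := v) hp2 hv (v := e.symm u) (by rw [MulEquiv.orderOf_eq, hu])
  refine ⟨s, hs2, (H8.Mon.comm_of_mk hp2 hv (by rw [← pow_two, ← hs2, pow_orderOf_eq_one]) hs hxv ?_).symm, hs⟩
  apply e.injective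
  rw [map_mul, map_mul, hsu, e.apply_symm_apply, hux]

/-- even centralizers -/
theorem exists_inv_of_even {S : Type*} [Group S] [Finite S] {a : S} (h : 2 ∣ Nat.card ↥(centralizer ({a} : Set S))) :
    ∃ u : S, orderOf u = 2 ∧ u * a = a * u := by
  have h2F : Fact (Nat.Prime 2) := ⟨Nat.prime_two⟩
  obtain ⟨s, hs⟩ := exists_prime_orderOf_dvd_card' (G := ↥(centralizer ({a} : Set S))) 2 h
  exact ⟨s, by rw [Subgroup.orderOf_coe, hs], mem_centralizer_singleton_iff.1 s.2⟩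

/-- the elements of order 3, 7, 11 of `HN` -/
theorem hn_even {q : ℕ} (hq : q = 3 ∨ q = 7 ∨ q = 11) (a : Spor.HN) (ha : orderOf a = q) :
    ∃ u : Spor.HN, orderOf u = 2 ∧ u * a = a * u := by
  have hfin : Finite Spor.HN := Nat.finite_of_card_ne_zero (by rw [Cfsg.Agent.S1701.result.2]; norm_num)
  by_cases h3 : q = 3
  · rw [h3] at ha
    exact H728.Four.HN3C.comm_inv (by rw [← ha, pow_orderOf_eq_one])
  have hqp : Fact q.Prime := ⟨by rcases hq with rfl | rfl | rfl <;> norm_num⟩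
  have hidx : ¬ q ∣ (centralizer ({HN.NormalH.ψ HN.H0Basic.τ} : Set Spor.HN)).index := by
    intro h
    have h1 := Subgroup.card_mul_index (centralizer ({HN.NormalH.ψ HN.H0Basic.τ} : Set Spor.HN))
    rw [KFacts.HN.Classes.card_centralizer_τ, Cfsg.Agent.S1701.result.2] at h1
    have h2 : (centralizer ({HN.NormalH.ψ HN.H0Basic.τ} : Set Spor.HN)).index = 1539000 :=
      Nat.eq_of_mul_eq_mul_left (show 0 < 177408000 by norm_num) (h1.trans (by norm_num))
    rw [h2] at h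
    rcases hq with rfl | rfl | rfl
    · exact h3 rfl
    · norm_num at h
    · norm_num at h
  obtain ⟨g, hg⟩ := H533.T5.exists_conj_mem_of_index hidx ha
  have hg' := mem_centralizer_singleton_iff.1 hg
  refine ⟨g⁻¹ * HN.NormalH.ψ HN.H0Basic.τ * g, ?_, ?_⟩
  · rw [← HN.TwoClasses.orderOf_ψτ]
    have := MulEquiv.orderOf_eq (MulAut.conj g⁻¹) (HN.NormalH.ψ HN.H0Basic.τ)
    rwa [MulAut.conj_apply, inv_inv] at this
  · calc g⁻¹ * HN.NormalH.ψ HN.H0Basic.τ * g * a = g⁻¹ * (HN.NormalH.ψ HN.H0Basic.τ * (g * a * g⁻¹)) * g := by group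
      _ = g⁻¹ * (g * a * g⁻¹ * HN.NormalH.ψ HN.H0Basic.τ) * g := by rw [hg']
      _ = _ := by group

/-- the type `TC` from the radical -/
theorem tc_of_rad {x : centralizer ({zz} : Set MG)} {p k : ℕ} (hx : orderOf x = p)
    {N : Subgroup ↥(centralizer ({(x : MG)} : Set MG))} {A : Type} [Group A]
    {f : ↥(centralizer ({zD x} : Set ↥(centralizer ({(x : MG)} : Set MG)))) →* A}
    (hN : BpSpor.M5.Rad p (zD x) (self (x : MG)) N f) (hNc : Nat.card ↥N = p ^ k) : TC (x : MG) := by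
  have := finite
  have hxz : zz * (x : MG) = x * zz := (mem_centralizer_singleton_iff.1 x.2).symm
  refine TC.of_sup (z := zz) zz_ne zz_sq hxz hN.nN (by rw [Subgroup.orderOf_coe, hx]) hNc fun g => ?_
  obtain ⟨n, hn, c, hc, h⟩ := hN.sup g
  exact ⟨n, hn, c, congrArg Subtype.val hc, h⟩

/-- **`x` of class `5B`** -/
theorem tc_fb {x : centralizer ({zz} : Set MG)} (hx : orderOf x = 5) (hfr : fr (pi x) = 1) : TC (x : MG) := by
  have := finite
  have hp : Fact (Nat.Prime 5) := ⟨Nat.prime_five⟩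
  have hj := CpAutBFive.Final.hJ (pi x) (MFive.orderOf_pi chart Nat.prime_five (by decide) hx) hfr
  obtain ⟨e⟩ := hj
  have hs : IsSimpleGroup (XX (pi x)) := (MulEquiv.isSimpleGroup_congr e).2 Cfsg.Agent.S1620.result.1
  have hc : Nat.card (XX (pi x)) = 604800 := by
    rw [Nat.card_congr e.toEquiv, Cfsg.Agent.J2Sylow.SporSylow.card_J2]
  have hns : ¬ Group.IsSolvable (XX (pi x)) := not_solvable hs hc (by norm_num) (by norm_num)
  obtain ⟨N, hN⟩ := BpSpor.M5.exists_rad chart (by norm_num) hx hfr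
    (fun d hd hc => MFive.isolated chart BpSpor.M5.trNe hx hfr d hd hc) hs (by rw [hc]; decide)
  obtain ⟨m, hm, hcm⟩ := hN.card_N_mul hns
  rw [hc] at hcm
  have h1 := H58.MonFiveB.card_dvd hx hfr
  rw [hcm] at h1
  have h2 : Nat.card ↥N * 604800 ∣ (5 ^ 7 * 2) * 604800 := by
    refine (mul_dvd_mul_left _ (dvd_mul_right _ m)).trans (h1.trans ?_)
    norm_num
  have h3 : Nat.card ↥N ∣ 5 ^ 7 * 2 := Nat.dvd_of_mul_dvd_mul_right (by norm_num) h2
  have h4 : Nat.card ↥N ∣ 5 ^ 7 :=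
    (Nat.Coprime.dvd_of_dvd_mul_right (Nat.Coprime.symm (Nat.coprime_two_left.2 hN.oN)) h3)
  obtain ⟨k, -, hk⟩ := (Nat.dvd_prime_pow Nat.prime_five).1 h4
  exact tc_of_rad hx hN hk

/-- **an element of order 5 commuting with a conjugate of `z`** -/
theorem tc_five {x : MG} (hx : orderOf x = 5) (he : Ev x) : Spor.IsoHN (XX x) ∨ TC x := by
  have hfin := finite
  have := simple
  obtain ⟨c, hc⟩ := he
  have h1 : (c⁻¹ * x * c) * zz = zz * (c⁻¹ * x * c) := by
    calc (c⁻¹ * x * c) * zz = c⁻¹ * (x * (c * zz * c⁻¹)) * c := by group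
      _ = c⁻¹ * ((c * zz * c⁻¹) * x) * c := by rw [hc]
      _ = zz * (c⁻¹ * x * c) := by group
  have hxo : orderOf (c⁻¹ * x * c) = 5 := (H8.Mon.orderOf_conj' c x).trans hx
  let x' : ↥(centralizer ({zz} : Set MG)) := ⟨c⁻¹ * x * c, mem_centralizer_singleton_iff.2 h1⟩
  have hx' : orderOf x' = 5 := by rw [← Subgroup.orderOf_coe]; exact hxo
  rcases MFive.cases_five chart BpSpor.M5.trNe (CpAutBFive.Closed.coFive CpAutBFive.Final.hJ)
    CpAutBFive.Closed.hnEight BpSpor.M5.hasPair hx' with hN | ⟨x₀, k, i, hx₀, hfr, hk⟩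
  · left
    obtain ⟨-, ⟨e⟩⟩ := exists_XX_equiv (x := (x' : MG)) (x' := x) (g := c⁻¹) (by
      show c⁻¹ * x * c⁻¹⁻¹ = c⁻¹ * x * c
      rw [inv_inv])
    obtain ⟨e'⟩ := hN
    exact ⟨e.trans e'⟩
  · right
    have hx₀o : orderOf (x₀ : MG) = 5 := by rw [Subgroup.orderOf_coe, hx₀]
    have hio : orderOf ((x₀ : MG) ^ i) = 5 := by
      rw [← hk, ← hxo]
      exact MulEquiv.orderOf_eq (MulAut.conj k) _
    have hz : zpowers ((x₀ : MG) ^ i) = zpowers (x₀ : MG) := by
      apply Subgroup.eq_of_le_of_card_ge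
      · rw [Subgroup.zpowers_le]
        exact pow_mem (Subgroup.mem_zpowers _) i
      · rw [Nat.card_zpowers, Nat.card_zpowers, hx₀o, hio]
    have h2 : TC ((x₀ : MG) ^ i) := (tc_fb hx₀ hfr).congr hz.symm
    have h3 : x = (c * k⁻¹) * (x₀ : MG) ^ i * (c * k⁻¹)⁻¹ := by
      rw [← hk]
      show x = c * k⁻¹ * (k * (c⁻¹ * x * c) * k⁻¹) * (c * k⁻¹)⁻¹
      group
    rw [h3]
    exact h2.conj _

/-- **(rad5)** a common involution -/
theorem common_five {q : ℕ} (hq : q = 3 ∨ q = 7 ∨ q = 11) {x y : MG} (hx : orderOf x = q) (hy : orderOf y = 5)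
    (he : Ev y) (h : x * y = y * x) : ∃ t : MG, orderOf t = 2 ∧ t * x = x * t ∧ t * y = y * t := by
  have hqp : q.Prime := by rcases hq with rfl | rfl | rfl <;> norm_num
  have hq5 : q ≠ 5 := by rcases hq with rfl | rfl | rfl <;> norm_num
  rcases tc_five hy he with ⟨⟨e⟩⟩ | hT
  · exact common_of_iso Nat.prime_five (by decide) hqp hq5 hy e (hn_even hq) hx h
  · exact hT.common h (m := q) (by rw [← hx, pow_orderOf_eq_one]) (by
      rw [hy]
      exact (Nat.coprime_primes hqp Nat.prime_five).2 hq5)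

/-- elements of order 5 commuting with an involution -/
theorem ev_of_inv5 {y : MG} (hy : orderOf y = 5) (he : ∃ t : MG, orderOf t = 2 ∧ t * y = y * t) : Ev y := by
  obtain ⟨t, ht, hty⟩ := he
  exact H8.Mon.ev_of_inv hy ht hty

/-- **(B2)** -/
theorem i5 {q : ℕ} (hq : q = 3 ∨ q = 7 ∨ q = 11) {x y : MG} (hx : orderOf x = q) (hy : orderOf y = 5)
    (he : ∃ t : MG, orderOf t = 2 ∧ t * y = y * t) (h : x * y = y * x) : ∃ t : MG, orderOf t = 2 ∧ t * x = x * t := by
  obtain ⟨t, ht, htx, -⟩ := common_five hq hx hy (ev_of_inv5 hy he) h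
  exact ⟨t, ht, htx⟩

/-- **(R57)** a common involution, whatever the type -/
theorem rad5 {q : ℕ} (hq : q = 3 ∨ q = 7 ∨ q = 11) {x y : MG} (hx : orderOf x = q) (hy : orderOf y = 5)
    (he : ∃ t : MG, orderOf t = 2 ∧ t * y = y * t) (h : x * y = y * x) :
    ∃ t : MG, orderOf t = 2 ∧ t * x = x * t ∧ t * y = y * t :=
  common_five hq hx hy (ev_of_inv5 hy he) h

end Cfsg.Agent.H497.MG
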