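import Cfsg.Agent.H867.RC.NonEv
import Cfsg.Agent.H873.RG.Defs

/-!
# S3509, row M, boxes M1 and M2 (helper497): elements `x` of prime order commuting with an involution

* `TQ x` : `C(x) / ⟨x⟩` is a nonabelian simple group, not alternating, of even order;
* `TB x` : an involution `z` of `C(x)` such that every `g ∈ C(x)` commutes with a conjugate of `z` in `C(x)`, or is conjugate in
  `C(x)` to all `g c`, `c ∈ ⟨x⟩`;
* `cp_of_TQ`, `exists_inv_of_TB`, **`m1`** : a cover has no member of one of these types;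
* **`m2`** : `e` of one of these types, `v ∈ C(e)` of the same order commuting with no involution: no cover.
-/

set_option autoImplicit false

namespace Cfsg.Agent.H497.MG

open MulAction Subgroup Cfsg.Agent.H867.RC Cfsg.Agent.H106.RC Cfsg.Agent.H873.RG
open scoped commutatorElement

section Types

variable {G : Type*} [Group G]

/-- `C(x) / ⟨x⟩` is simple -/
def TQ (x : G) : Prop := ∃ (S : Type) (_ : Group S) (_ : Finite S) (f : ↥(centralizer ({x} : Set G)) →* S),
  Function.Surjective f ∧ (∀ g, f g = 1 ↔ (g : G) ∈ zpowers x) ∧ NSA S ∧ 2 ∣ Nat.card S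

/-- the isolated type -/
def TB (x : G) : Prop := ∃ z : G, z ≠ 1 ∧ z * z = 1 ∧ z * x = x * z ∧ ∀ g, g * x = x * g →
  (∃ m, m * x = x * m ∧ g * (m * z * m⁻¹) = (m * z * m⁻¹) * g) ∨
    ∀ c ∈ zpowers x, ∃ s, s * x = x * s ∧ s * g * s⁻¹ = g * c

theorem comm_iff_of_zpowers {x y : G} (h : zpowers x = zpowers y) (g : G) : g * x = x * g ↔ g * y = y * g := by
  have key : ∀ {x y : G}, zpowers x = zpowers y → g * x = x * g → g * y = y * g := by
    intro x y h hg
    have h1 : y ∈ zpowers x := by rw [h]; exact mem_zpowers y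
    obtain ⟨k, rfl⟩ := h1
    exact ((show Commute g x from hg).zpow_right k).eq
  exact ⟨key h, key h.symm⟩

theorem TB.congr {x y : G} (h : zpowers x = zpowers y) (hx : TB x) : TB y := by
  obtain ⟨z, hz1, hzz, hzx, H⟩ := hx
  refine ⟨z, hz1, hzz, (comm_iff_of_zpowers h z).1 hzx, fun g hg => ?_⟩
  rcases H g ((comm_iff_of_zpowers h g).2 hg) with ⟨m, hm, h1⟩ | h1
  · exact Or.inl ⟨m, (comm_iff_of_zpowers h m).1 hm, h1⟩
  · refine Or.inr fun c hc => ?_
    obtain ⟨s, hs, h2⟩ := h1 c (by rw [h]; exact hc)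
    exact ⟨s, (comm_iff_of_zpowers h s).1 hs, h2⟩

theorem TQ.congr {x y : G} (h : zpowers x = zpowers y) (hx : TQ x) : TQ y := by
  obtain ⟨S, _, _, f, hf, hk, hS, h2⟩ := hx
  have hle : ∀ g : G, g ∈ centralizer ({y} : Set G) → g ∈ centralizer ({x} : Set G) := fun g hg =>
    mem_centralizer_singleton_iff.2 ((comm_iff_of_zpowers h g).2 (mem_centralizer_singleton_iff.1 hg))
  have hge : ∀ g : G, g ∈ centralizer ({x} : Set G) → g ∈ centralizer ({y} : Set G) := fun g hg =>
    mem_centralizer_singleton_iff.2 ((comm_iff_of_zpowers h g).1 (mem_centralizer_singleton_iff.1 hg))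
  refine ⟨S, inferInstance, inferInstance, f.comp (inclusion hle), fun s => ?_, fun g => ?_, hS, h2⟩
  · obtain ⟨g, rfl⟩ := hf s
    exact ⟨⟨g, hge g g.2⟩, rfl⟩
  · rw [← h]
    exact hk _

theorem TB.conj {x : G} (hx : TB x) (k : G) : TB (k * x * k⁻¹) := by
  obtain ⟨z, hz1, hzz, hzx, H⟩ := hx
  have hcj : ∀ {g : G}, g * (k * x * k⁻¹) = (k * x * k⁻¹) * g → (k⁻¹ * g * k) * x = x * (k⁻¹ * g * k) := by
    intro g hg
    calc (k⁻¹ * g * k) * x = k⁻¹ * (g * (k * x * k⁻¹)) * k := by group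
      _ = k⁻¹ * ((k * x * k⁻¹) * g) * k := by rw [hg]
      _ = x * (k⁻¹ * g * k) := by group
  have hcj' : ∀ {g : G}, g * x = x * g → (k * g * k⁻¹) * (k * x * k⁻¹) = (k * x * k⁻¹) * (k * g * k⁻¹) := by
    intro g hg
    calc (k * g * k⁻¹) * (k * x * k⁻¹) = k * (g * x) * k⁻¹ := by group
      _ = k * (x * g) * k⁻¹ := by rw [hg]
      _ = _ := by group
  refine ⟨k * z * k⁻¹, ?_, ?_, hcj' hzx, fun g hg => ?_⟩
  · intro h
    apply hz1
    have : z = k⁻¹ * (k * z * k⁻¹) * k := by group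
    rw [this, h]
    group
  · calc k * z * k⁻¹ * (k * z * k⁻¹) = k * (z * z) * k⁻¹ := by group
      _ = 1 := by rw [hzz]; group
  · rcases H _ (hcj hg) with ⟨m, hm, h1⟩ | h1
    · refine Or.inl ⟨k * m * k⁻¹, hcj' hm, ?_⟩
      have e : k * m * k⁻¹ * (k * z * k⁻¹) * (k * m * k⁻¹)⁻¹ = k * (m * z * m⁻¹) * k⁻¹ := by group
      rw [e]
      calc g * (k * (m * z * m⁻¹) * k⁻¹) = k * ((k⁻¹ * g * k) * (m * z * m⁻¹)) * k⁻¹ := by group
        _ = k * ((m * z * m⁻¹) * (k⁻¹ * g * k)) * k⁻¹ := by rw [h1]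
        _ = _ := by group
    · refine Or.inr fun c hc => ?_
      obtain ⟨i, hi⟩ := hc
      have hi' : c = k * x ^ i * k⁻¹ := by rw [← hi]; exact (conj_zpow)
      obtain ⟨s, hs, h2⟩ := h1 (x ^ i) ⟨i, rfl⟩
      refine ⟨k * s * k⁻¹, hcj' hs, ?_⟩
      calc k * s * k⁻¹ * g * (k * s * k⁻¹)⁻¹ = k * (s * (k⁻¹ * g * k) * s⁻¹) * k⁻¹ := by group
        _ = k * ((k⁻¹ * g * k) * x ^ i) * k⁻¹ := by rw [h2]
        _ = g * c := by rw [hi']; group

theorem TQ.conj {x : G} (hx : TQ x) (k : G) : TQ (k * x * k⁻¹) := by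
  obtain ⟨S, _, _, f, hf, hk, hS, h2⟩ := hx
  have hcj : ∀ g : G, g ∈ centralizer ({k * x * k⁻¹} : Set G) → k⁻¹ * g * k ∈ centralizer ({x} : Set G) := by
    intro g hg
    have hg := mem_centralizer_singleton_iff.1 hg
    rw [mem_centralizer_singleton_iff]
    calc (k⁻¹ * g * k) * x = k⁻¹ * (g * (k * x * k⁻¹)) * k := by group
      _ = k⁻¹ * ((k * x * k⁻¹) * g) * k := by rw [hg]
      _ = x * (k⁻¹ * g * k) := by group
  have hcj' : ∀ g : G, g ∈ centralizer ({x} : Set G) → k * g * k⁻¹ ∈ centralizer ({k * x * k⁻¹} : Set G) := by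
    intro g hg
    have hg := mem_centralizer_singleton_iff.1 hg
    rw [mem_centralizer_singleton_iff]
    calc (k * g * k⁻¹) * (k * x * k⁻¹) = k * (g * x) * k⁻¹ := by group
      _ = k * (x * g) * k⁻¹ := by rw [hg]
      _ = _ := by group
  let c : ↥(centralizer ({k * x * k⁻¹} : Set G)) →* ↥(centralizer ({x} : Set G)) :=
    { toFun := fun g => ⟨k⁻¹ * g * k, hcj g g.2⟩
      map_one' := Subtype.ext (by simp)
      map_mul' := fun a b => Subtype.ext (by
        change k⁻¹ * ((a : G) * b) * k = k⁻¹ * a * k * (k⁻¹ * b * k)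
        group) }
  refine ⟨S, inferInstance, inferInstance, f.comp c, fun s => ?_, fun g => ?_, hS, h2⟩
  · obtain ⟨g, rfl⟩ := hf s
    refine ⟨⟨k * g * k⁻¹, hcj' g g.2⟩, ?_⟩
    rw [MonoidHom.comp_apply]
    congr 1
    apply Subtype.ext
    change k⁻¹ * (k * (g : G) * k⁻¹) * k = g
    group
  · rw [MonoidHom.comp_apply, hk]
    change k⁻¹ * (g : G) * k ∈ zpowers x ↔ _
    constructor
    · rintro ⟨i, hi⟩
      have hi : x ^ i = k⁻¹ * (g : G) * k := hi
      refine ⟨i, ?_⟩
      change (k * x * k⁻¹) ^ i = g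
      rw [conj_zpow, hi]
      group
    · rintro ⟨i, hi⟩
      have hi : (k * x * k⁻¹) ^ i = g := hi
      refine ⟨i, ?_⟩
      change x ^ i = _
      rw [← hi, conj_zpow]
      group

end Types

section Main

variable {G : Type*} [Group G]

/-- the normal closure in `C(x)` is large: the type `TQ` -/
theorem TQ.exists_inv [Finite G] {x : G} (hx : TQ x) {K : Subgroup G} (hK : ∀ k ∈ K, k * x = x * k)
    (hn : ∀ c, c * x = x * c → ∀ k ∈ K, c * k * c⁻¹ ∈ K) {v : G} (hv : v ∈ K) (hvx : v ∉ zpowers x) :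
    ∃ t ∈ K, orderOf t = 2 := by
  obtain ⟨S, _, _, f, hf, hk, hS, h2⟩ := hx
  have hle : K ≤ centralizer ({x} : Set G) := fun k hk => mem_centralizer_singleton_iff.2 (hK k hk)
  let K' : Subgroup S := (K.subgroupOf (centralizer ({x} : Set G))).map f
  have hN : K'.Normal := by
    refine ⟨?_⟩
    rintro _ ⟨a, ha, rfl⟩ s
    obtain ⟨c, rfl⟩ := hf s
    refine ⟨c * a * c⁻¹, ?_, by rw [map_mul, map_mul, map_inv]⟩
    exact hn c (mem_centralizer_singleton_iff.1 c.2) a ha
  have htop : K' = ⊤ := by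
    refine (hS.simple.eq_bot_or_eq_top_of_normal K' hN).resolve_left fun h => ?_
    have h1 : f ⟨v, hle hv⟩ ∈ K' := ⟨_, hv, rfl⟩
    rw [h, mem_bot, hk] at h1
    exact hvx h1
  have h3 : 2 ∣ Nat.card K := by
    have h4 : Nat.card S ∣ Nat.card K := by
      have h5 : Nat.card K' ∣ Nat.card (K.subgroupOf (centralizer ({x} : Set G))) := Subgroup.card_map_dvd _ _
      rwa [htop, Subgroup.card_top, Nat.card_congr (Subgroup.subgroupOfEquivOfLe hle).toEquiv] at h5
    exact h2.trans h4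
  have := Fact.mk Nat.prime_two
  obtain ⟨t, ht⟩ := exists_prime_orderOf_dvd_card' 2 h3
  exact ⟨t, t.2, by rw [Subgroup.orderOf_coe, ht]⟩

end Main

section Cover

variable {G Ω : Type} [Group G] [Finite G] [MulAction G Ω]

/-- **the M-rule for a member of type `TQ`** -/
theorem cp_of_TQ {ι : Type} [Finite ι] {x : ι → G} {r : ι → ℕ} (hx : PF x r) (hc : Cov Ω x) {i : ι} (hi : TQ (x i))
    (hRC : ∀ (S : Type) [Group S] [Finite S], NSA S → Nat.card S ≤ Nat.card ↥(centralizer ({x i} : Set G)) → RC S) :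
    ∃ t, orderOf t = 2 ∧ t * x i = x i * t ∧ CP Ω t (x i) := by
  unfold TQ at hi
  set D := centralizer ({x i} : Set G) with hD
  obtain ⟨S, _, _, f, hf, hk, hS, h2⟩ := hi
  set M : Subgroup G := (⁅(⊤ : Subgroup D), (⊤ : Subgroup D)⁆).map D.subtype with hM
  have hMD : M ≤ D := map_subtype_le _
  have hMm : ∀ m : D, (m : G) ∈ M ↔ m ∈ ⁅(⊤ : Subgroup D), (⊤ : Subgroup D)⁆ := by
    intro m
    constructor
    · rintro ⟨a, ha, h⟩
      rwa [← Subtype.ext (show (a : G) = m from h)]
    · intro h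
      exact ⟨m, h, rfl⟩
  have hcx : ∀ d : D, ∀ c ∈ zpowers (x i), (d : G) * c = c * d := by
    rintro d _ ⟨k, rfl⟩
    exact ((show Commute (d : G) (x i) from mem_centralizer_singleton_iff.1 d.2).zpow_right k).eq
  -- `f` maps the derived group onto `S`
  have hfM : ∀ s : S, ∃ m : D, (m : G) ∈ M ∧ f m = s := by
    intro s
    have h1 : (⁅(⊤ : Subgroup D), (⊤ : Subgroup D)⁆).map f = ⊤ := by
      rw [map_commutator, ← MonoidHom.range_eq_map, MonoidHom.range_eq_top.2 hf]
      refine (hS.simple.eq_bot_or_eq_top_of_normal _ inferInstance).resolve_left fun h => hS.ncomm ?_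
      refine ⟨⟨fun a b => ?_⟩⟩
      have h3 : ⁅a, b⁆ ∈ ⁅(⊤ : Subgroup S), (⊤ : Subgroup S)⁆ := commutator_mem_commutator trivial trivial
      rw [h, mem_bot] at h3
      exact commutatorElement_eq_one_iff_mul_comm.1 h3
    have h3 : s ∈ (⁅(⊤ : Subgroup D), (⊤ : Subgroup D)⁆).map f := by rw [h1]; trivial
    obtain ⟨m, hm, hms⟩ := h3
    exact ⟨m, (hMm m).2 hm, hms⟩
  -- `M` is perfect
  have hperf : ⁅M, M⁆ = M := by
    apply le_antisymm
    · rw [commutator_le]
      intro a ha b hb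
      rw [commutatorElement_def]
      exact mul_mem (mul_mem (mul_mem ha hb) (inv_mem ha)) (inv_mem hb)
    · conv_lhs => rw [hM]
      rw [map_le_iff_le_comap, commutator_le]
      intro a _ b _
      obtain ⟨a', ha', hfa⟩ := hfM (f a)
      obtain ⟨b', hb', hfb⟩ := hfM (f b)
      have hza : ((a'⁻¹ * a : D) : G) ∈ zpowers (x i) := (hk _).1 (by rw [map_mul, map_inv, hfa, inv_mul_cancel])
      have hzb : ((b'⁻¹ * b : D) : G) ∈ zpowers (x i) := (hk _).1 (by rw [map_mul, map_inv, hfb, inv_mul_cancel])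
      rw [mem_comap]
      have e : D.subtype ⁅a, b⁆ = ⁅(a' : G), (b' : G)⁆ := by
        change ⁅(a : G), (b : G)⁆ = _
        set c := ((a'⁻¹ * a : D) : G) with hc'
        set d := ((b'⁻¹ * b : D) : G) with hd'
        have ea : (a : G) = a' * c := by
          rw [hc']
          push_cast
          group
        have eb : (b : G) = b' * d := by
          rw [hd']
          push_cast
          group
        have c1 : Commute c (b' : G) := (hcx b' c hza).symm
        have c2 : Commute c d := by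
          rw [hd']
          exact (hcx _ c hza).symm
        have c3 : Commute d (a' : G) := (hcx a' d hzb).symm
        have c4 : Commute c (a' : G) := (hcx a' c hza).symm
        have c5 : Commute d (b' : G) := (hcx b' d hzb).symm
        rw [ea, eb]
        simp only [commutatorElement_def, mul_inv_rev]
        calc (a' : G) * c * (b' * d) * (c⁻¹ * (a' : G)⁻¹) * (d⁻¹ * (b' : G)⁻¹)
            = a' * (c * (b' * d)) * c⁻¹ * (a' : G)⁻¹ * d⁻¹ * (b' : G)⁻¹ := by group
          _ = a' * ((b' * d) * c) * c⁻¹ * (a' : G)⁻¹ * d⁻¹ * (b' : G)⁻¹ := by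
              rw [(Commute.mul_right c1 c2).eq]
          _ = a' * b' * (d * (a' : G)⁻¹) * d⁻¹ * (b' : G)⁻¹ := by group
          _ = a' * b' * ((a' : G)⁻¹ * d) * d⁻¹ * (b' : G)⁻¹ := by rw [(c3.inv_right).eq]
          _ = a' * b' * (a' : G)⁻¹ * (b' : G)⁻¹ := by group
      rw [e]
      exact commutator_mem_commutator ha' hb'
  -- the involution
  have hnorm : ∀ d : D, (d : G) ∈ normalizer (M : Set G) := by
    have key : ∀ d : D, ∀ m ∈ M, (d : G) * m * (d : G)⁻¹ ∈ M := by
      intro d m hm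
      have h3 := (inferInstance : (⁅(⊤ : Subgroup D), (⊤ : Subgroup D)⁆).Normal).conj_mem ⟨m, hMD hm⟩
        ((hMm ⟨m, hMD hm⟩).1 hm) d
      exact (hMm _).2 h3
    intro d
    rw [mem_normalizer_iff]
    intro m
    refine ⟨fun hm => key d m hm, fun hm => ?_⟩
    have h3 := key d⁻¹ _ hm
    have e : ((d⁻¹ : D) : G) * ((d : G) * m * (d : G)⁻¹) * ((d⁻¹ : D) : G)⁻¹ = m := by
      push_cast
      group
    rwa [e] at h3
  let π : M →* S := f.comp (inclusion hMD)
  have hπ : Function.Surjective π := by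
    intro s
    obtain ⟨m, hm, h3⟩ := hfM s
    exact ⟨⟨m, hm⟩, h3⟩
  have hker : π.ker ≤ center M := by
    intro m hm
    have h3 : (m : G) ∈ zpowers (x i) := (hk _).1 (MonoidHom.mem_ker.1 hm)
    rw [mem_center_iff]
    intro m'
    exact Subtype.ext (hcx ⟨m', hMD m'.2⟩ m h3)
  have h3 : 2 ∣ Nat.card M := h2.trans (Subgroup.card_dvd_of_surjective π hπ)
  have := Fact.mk Nat.prime_two
  obtain ⟨t, ht⟩ := exists_prime_orderOf_dvd_card' 2 h3
  refine ⟨t, by rw [Subgroup.orderOf_coe, ht], mem_centralizer_singleton_iff.1 (hMD t.2), fun ω => ?_⟩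
  have hxD : ∀ j, x j ∈ D := fun j => mem_centralizer_singleton_iff.2 (hx.comm j i)
  rcases mrule_RC hS.simple hS.ncomm x r hx.prime hx.inj hx.pow hx.comm M hperf π hπ hker
    (fun j => hnorm ⟨x j, hxD j⟩) (hRC S hS (Nat.card_le_card_of_surjective f hf)) ω
    (fun m _ => by
      obtain ⟨j, hj⟩ := hc (m • ω)
      exact ⟨j, hj⟩) with h4 | ⟨j, hj, hω⟩
  · exact Or.inl (h4 t.2)
  · right
    have h5 : f ⟨x j, hxD j⟩ ∈ center S := by
      rw [mem_center_iff]
      intro s
      obtain ⟨m, hm, rfl⟩ := hfM s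
      rw [← map_mul, ← map_mul]
      congr 1
      exact Subtype.ext (hj m hm).symm
    have h6 : f ⟨x j, hxD j⟩ = 1 := by
      rcases hS.simple.eq_bot_or_eq_top_of_normal (center S) inferInstance with h | h
      · rw [h, mem_bot] at h5
        exact h5
      · refine absurd ⟨⟨fun a b => ?_⟩⟩ hS.ncomm
        have : b ∈ center S := by rw [h]; trivial
        exact mem_center_iff.1 this a
    have h7 : x j ∈ zpowers (x i) := (hk _).1 h6
    have h8 : r j = r i := by
      have hpj := Fact.mk (hx.prime j)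
      have hpi := Fact.mk (hx.prime i)
      have e1 : orderOf (x j) = r j := orderOf_eq_prime (hx.pow j) (hx.ne j)
      have e2 : orderOf (x i) = r i := orderOf_eq_prime (hx.pow i) (hx.ne i)
      have e3 := orderOf_dvd_of_mem_zpowers h7
      rw [e1, e2] at e3
      exact (Nat.prime_dvd_prime_iff_eq (hx.prime j) (hx.prime i)).1 e3
    rw [hx.inj h8] at hω
    exact hω

omit [Finite G] [MulAction G Ω] in
/-- **a member of type `TB`: the family commutes with an involution** -/
theorem exists_inv_of_TB {ι : Type} [Finite ι] {x : ι → G} {r : ι → ℕ} (hx : PF x r) {i : ι} (hi : TB (x i)) :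
    ∃ u, orderOf u = 2 ∧ (∀ j, u * x j = x j * u) ∧ ∀ j, r j = 2 → x j = u := by
  classical
  have := Fintype.ofFinite ι
  by_cases h2 : ∃ j, r j = 2
  · obtain ⟨j, hj⟩ := h2
    have := Fact.mk Nat.prime_two
    refine ⟨x j, orderOf_eq_prime (by rw [← hj]; exact hx.pow j) (hx.ne j), fun k => hx.comm j k, fun k hk => ?_⟩
    rw [hx.inj (hk.trans hj.symm)]
  push Not at h2
  obtain ⟨z, hz1, hzz, hzx, H⟩ := hi
  -- the other members
  obtain ⟨g, hg, hgx⟩ := exists_gen (fun j : {j // j ≠ i} => x j) (fun j => r j) (fun j => hx.prime j)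
    (fun a b hab => Subtype.ext (hx.inj hab)) (fun j => hx.pow j) (fun a b => hx.comm a b)
  set N := ∏ j : {j // j ≠ i}, r j with hN
  have hgc : g * x i = x i * g := by
    have h1 : closure (Set.range fun j : {j // j ≠ i} => x j) ≤ centralizer ({x i} : Set G) := by
      rw [closure_le]
      rintro _ ⟨j, rfl⟩
      exact mem_centralizer_singleton_iff.2 (hx.comm j i)
    exact mem_centralizer_singleton_iff.1 (h1 hg)
  have hgN : g ^ N = 1 := by
    have hcm : ∀ a ∈ closure (Set.range fun j : {j // j ≠ i} => x j),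
        ∀ b ∈ closure (Set.range fun j : {j // j ≠ i} => x j), a * b = b * a := by
      intro a ha b hb
      have h1 : closure (Set.range fun j : {j // j ≠ i} => x j) ≤
          centralizer (Set.range fun j : {j // j ≠ i} => x j) := by
        rw [closure_le]
        rintro _ ⟨j, rfl⟩
        rw [SetLike.mem_coe, mem_centralizer_iff]
        rintro _ ⟨k, rfl⟩
        exact hx.comm k j
      have h3 : closure (Set.range fun j : {j // j ≠ i} => x j) ≤
          centralizer ((closure (Set.range fun j : {j // j ≠ i} => x j) : Subgroup G) : Set G) := by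
        rw [closure_le]
        intro c hc
        rw [SetLike.mem_coe, mem_centralizer_iff]
        intro d hd
        exact ((mem_centralizer_iff.1 (h1 hd)) c hc).symm
      exact ((mem_centralizer_iff.1 (h3 ha)) b hb).symm
    refine closure_induction (p := fun a _ => a ^ N = 1) ?_ ?_ ?_ ?_ hg
    · rintro _ ⟨j, rfl⟩
      obtain ⟨M, hM⟩ : r j ∣ N := Finset.dvd_prod_of_mem (fun j : {j // j ≠ i} => r j) (Finset.mem_univ j)
      rw [hM, pow_mul, hx.pow, one_pow]
    · exact one_pow _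
    · intro a b ha hb h1 h3
      rw [(show Commute a b from hcm a ha b hb).mul_pow, h1, h3, one_mul]
    · intro a _ h1
      rw [inv_pow, h1, inv_one]
  rcases H g hgc with ⟨m, hm, h1⟩ | h1
  · refine ⟨m * z * m⁻¹, ?_, fun j => ?_, fun j hj => absurd hj (h2 j)⟩
    · have := Fact.mk Nat.prime_two
      refine orderOf_eq_prime ?_ ?_
      · rw [pow_two]
        calc m * z * m⁻¹ * (m * z * m⁻¹) = m * (z * z) * m⁻¹ := by group
          _ = 1 := by rw [hzz]; group
      · intro h
        apply hz1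
        have : z = m⁻¹ * (m * z * m⁻¹) * m := by group
        rw [this, h]
        group
    · by_cases hj : j = i
      · subst hj
        have hm' : m⁻¹ * x j = x j * m⁻¹ := by
          calc m⁻¹ * x j = m⁻¹ * (x j * m) * m⁻¹ := by group
            _ = x j * m⁻¹ := by rw [← hm]; group
        calc m * z * m⁻¹ * x j = m * z * (m⁻¹ * x j) := by group
          _ = m * (z * x j) * m⁻¹ := by rw [hm']; group
          _ = (m * x j) * z * m⁻¹ := by rw [hzx]; group
          _ = x j * (m * z * m⁻¹) := by rw [hm]; group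
      · obtain ⟨k, hk⟩ := hgx ⟨j, hj⟩
        have hk : g ^ k = x j := hk
        rw [← hk]
        exact ((show Commute (m * z * m⁻¹) g from h1.symm).zpow_right k).eq
  · exfalso
    obtain ⟨s, -, hs⟩ := h1 (x i) (mem_zpowers _)
    have h3 : (g * x i) ^ N = 1 := by rw [← hs, conj_pow, hgN, mul_one, mul_inv_cancel]
    rw [(show Commute g (x i) from hgc).mul_pow, hgN, one_mul] at h3
    have hpi := Fact.mk (hx.prime i)
    have h4 := orderOf_dvd_of_pow_eq_one h3
    rw [orderOf_eq_prime (hx.pow i) (hx.ne i), hN, (hx.prime i).prime.dvd_finsetProd_iff] at h4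
    obtain ⟨j, -, hj⟩ := h4
    exact j.2 (hx.inj ((Nat.prime_dvd_prime_iff_eq (hx.prime i) (hx.prime j)).1 hj)).symm

/-- the families commuting with an involution (box E) -/
def BoxE (G Ω : Type) [Group G] [MulAction G Ω] : Prop :=
  ∀ (ι : Type) [Finite ι] (x : ι → G) (r : ι → ℕ), PF x r → Cov Ω x → ∀ u : G, orderOf u = 2 →
    (∀ j, u * x j = x j * u) → (∀ j, r j = 2 → x j = u) → False

omit [Finite G] in
/-- pairs with an involution -/
theorem BoxE.pair (hE : BoxE G Ω) {t x : G} {p : ℕ} (hp : p.Prime) (hp2 : p ≠ 2) (hx : x ^ p = 1) (hx1 : x ≠ 1)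
    (ht : orderOf t = 2) (htx : t * x = x * t) : ¬ CP Ω t x := by
  intro h
  have ht2 : t ^ 2 = 1 := by rw [← ht, pow_orderOf_eq_one]
  have ht1 : t ≠ 1 := by
    rintro rfl
    rw [orderOf_one] at ht
    omega
  refine hE Bool (fun b => if b then t else x) (fun b => if b then 2 else p) ⟨?_, ?_, ?_, ?_, ?_⟩ (fun ω => ?_) t ht ?_ ?_
  · rintro (_ | _)
    · exact hp
    · exact Nat.prime_two
  · rintro (_ | _) (_ | _) h
    · rfl
    · exact absurd h hp2
    · exact absurd h.symm hp2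
    · rfl
  · rintro (_ | _)
    · exact hx
    · exact ht2
  · rintro (_ | _)
    · exact hx1
    · exact ht1
  · rintro (_ | _) (_ | _)
    · rfl
    · exact htx.symm
    · exact htx
    · rfl
  · rcases h ω with h1 | h1
    · exact ⟨true, h1⟩
    · exact ⟨false, h1⟩
  · rintro (_ | _)
    · exact htx
    · rfl
  · rintro (_ | _) h
    · exact absurd h hp2
    · rfl

/-- **M1** : a cover has no member of type `TQ` or `TB` -/
theorem m1 (hE : BoxE G Ω) {ι : Type} [Finite ι] {x : ι → G} {r : ι → ℕ} (hx : PF x r) (hc : Cov Ω x) {i : ι}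
    (hi : TQ (x i) ∨ TB (x i)) (hi2 : r i ≠ 2)
    (hRC : ∀ (S : Type) [Group S] [Finite S], NSA S → Nat.card S ≤ Nat.card ↥(centralizer ({x i} : Set G)) → RC S) :
    False := by
  rcases hi with hi | hi
  · obtain ⟨t, ht, htx, hcp⟩ := cp_of_TQ hx hc hi hRC
    exact hE.pair (hx.prime i) hi2 (hx.pow i) (hx.ne i) ht htx hcp
  · obtain ⟨u, hu, h1, h2⟩ := exists_inv_of_TB hx hi
    exact hE ι x r hx hc u hu h1 h2

/-- **M2** -/
theorem m2 (hE : BoxE G Ω) (hf : ∀ g : G, (∀ ω : Ω, g • ω = ω) → g = 1) {p : ℕ} (hp : p.Prime) (hp2 : p ≠ 2) {e v : G}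
    (he : TQ e ∨ TB e) (hep : e ^ p = 1) (he1 : e ≠ 1) (hev : e * v = v * e) (hv : ¬ H867.RC.Ev v)
    (hEe : H867.RC.Ev e) : ¬ CP Ω e v := by
  intro h
  rcases he with he | he
  · have hvx : v ∉ zpowers e := by
      rintro ⟨k, rfl⟩
      apply hv
      obtain ⟨t, ht1, htt, hte⟩ := hEe
      exact ⟨t, ht1, htt, ((show Commute t e from hte).zpow_right k).eq⟩
    obtain ⟨t, ht, ht2⟩ := he.exists_inv (K := clo e v) (fun k hk => (clo_comm hev hk).symm)
      (fun c hc k hk => clo_conj hc hk) (clo_self e v) hvx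
    exact hE.pair hp hp2 hep he1 ht2 (clo_comm hev ht).symm (h.clo ht).symm
  · obtain ⟨z, hz1, hzz, hze, H⟩ := he
    rcases H v hev.symm with ⟨m, hm, h1⟩ | h1
    · apply hv
      refine ⟨m * z * m⁻¹, ?_, ?_, h1.symm⟩
      · intro h2
        apply hz1
        have : z = m⁻¹ * (m * z * m⁻¹) * m := by group
        rw [this, h2]
        group
      · calc m * z * m⁻¹ * (m * z * m⁻¹) = m * (z * z) * m⁻¹ := by group
          _ = 1 := by rw [hzz]; group
    · obtain ⟨s, hs, h2⟩ := h1 e (mem_zpowers e)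
      have h3 : e ∈ clo e v := by
        have h4 : v⁻¹ * (s * v * s⁻¹) ∈ clo e v := mul_mem (inv_mem (clo_self e v)) (clo_gen hs)
        rwa [h2, inv_mul_cancel_left] at h4
      apply he1
      apply hf
      intro ω
      rcases h.clo h3 ω with h4 | h4 <;> exact h4

end Cover

end Cfsg.Agent.H497.MG
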